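import Cfsg.Agent.Lib.CharsMore.Watanabe.Transfer
import Mathlib.GroupTheory.FiniteAbelian.Duality
import Mathlib.RingTheory.RootsOfUnity.AlgebraicallyClosed

/-!
# Elements of an abelian defect group fixed by the inertial quotient

The block and the block of the centralizer of such an element have the same numbers of ordinary and
of modular irreducible characters.
-/

set_option autoImplicit false
set_option linter.unusedSectionVars false
set_option linter.style.haveILetI false

namespace CfsgLib.CharsMore.Watanabe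

open Cfsg CfsgLib.Blocks CfsgLib.BlockOrth CfsgLib.Chars

universe u

variable {G : Type u} [Group G] [Fintype G] {M : Ideal AlgInt} [M.IsPrime] {p : ℕ} [Fact p.Prime]
  {B : Set (IrrCharacter G)} {P : Subgroup G}
  {e : Set (IrrCharacter (Subgroup.centralizer (P : Set G)))}

/-- A subgroup containing the commutators with the inertial group and no fixed element but `1`. -/
theorem exists_commutator_kernel (hpM : (p : AlgInt) ∈ M) (hmax : IsMaximalBrauerPair p M B P e)
    (hab : ∀ x ∈ P, ∀ y ∈ P, x * y = y * x) :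
    ∃ N : Subgroup P,
      (∀ t ∈ stabPair (⟨P, e⟩ : BrauerPairIdx G), ∀ v w : P, t * (v : G) * t⁻¹ = w → w * v⁻¹ ∈ N) ∧
      ∀ v ∈ N, (∀ t ∈ stabPair (⟨P, e⟩ : BrauerPairIdx G), t * ((v : P) : G) * t⁻¹ = v) → v = 1 := by
  classical
  letI : CommGroup P :=
    { (inferInstance : Group P) with mul_comm := fun a b => Subtype.ext (hab a a.2 b b.2) }
  set T := stabPair (⟨P, e⟩ : BrauerPairIdx G) with hT
  set C := (Subgroup.centralizer (P : Set G)).subgroupOf T with hC
  haveI : C.Normal := (Subgroup.normal_subgroupOf_iff_le_normalizer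
    (centralizer_le_stabPair hmax.1.1.2)).2 fun x hx => mem_normalizer_centralizer (stabPair_le_normalizer _ hx)
  haveI := Fintype.ofFinite (T ⧸ C)
  have hmem : ∀ (t : T) (v : P), (t : G) * v * (t : G)⁻¹ ∈ P := fun t v =>
    (Subgroup.mem_normalizer_iff.1 (stabPair_le_normalizer _ t.2) _).1 v.2
  let act : T → P →* P := fun t =>
    { toFun := fun v => ⟨_, hmem t v⟩
      map_one' := Subtype.ext (by simp)
      map_mul' := fun v w => Subtype.ext (by simp only [Subgroup.coe_mul]; group) }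
  have hact : ∀ (t s : T), t⁻¹ * s ∈ C → act t = act s := by
    intro t s h
    refine MonoidHom.ext fun v => Subtype.ext ?_
    show (t : G) * v * (t : G)⁻¹ = (s : G) * v * (s : G)⁻¹
    have h3 := Subgroup.mem_centralizer_iff.1 (Subgroup.mem_subgroupOf.1 h) v v.2
    push_cast at h3
    calc (t : G) * v * (t : G)⁻¹ = (t : G) * ((v : G) * ((t : G)⁻¹ * s)) * (s : G)⁻¹ := by group
      _ = (s : G) * v * (s : G)⁻¹ := by rw [h3]; group
  let ν : P →* P := ∏ q : T ⧸ C, act q.out
  have hν : ∀ v, ν v = ∏ q : T ⧸ C, act q.out v := fun v => MonoidHom.finsetProd_apply _ _ v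
  refine ⟨ν.ker, fun t ht v w hvw => ?_, fun v hv hfix => ?_⟩
  · rw [MonoidHom.mem_ker, map_mul, map_inv, mul_inv_eq_one, hν, hν]
    refine Fintype.prod_equiv (Equiv.mulRight ((⟨t, ht⟩ : T) : T ⧸ C)) _ _ fun q => ?_
    have h1 : act (q.out * ⟨t, ht⟩) = act (Quotient.out (q * ((⟨t, ht⟩ : T) : T ⧸ C))) := by
      refine hact _ _ ((QuotientGroup.eq).1 ?_)
      rw [QuotientGroup.mk_mul, QuotientGroup.out_eq', QuotientGroup.out_eq']
    show act q.out w = act (Quotient.out (q * ((⟨t, ht⟩ : T) : T ⧸ C))) v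
    rw [← h1]
    refine Subtype.ext ?_
    show (q.out : G) * w * (q.out : G)⁻¹ = ((q.out * ⟨t, ht⟩ : T) : G) * v * ((q.out * ⟨t, ht⟩ : T) : G)⁻¹
    rw [← hvw]
    push_cast
    group
  · rw [MonoidHom.mem_ker, hν, Finset.prod_congr rfl (g := fun _ => v) fun q _ =>
      Subtype.ext (hfix _ (q.out).2), Finset.prod_const, Finset.card_univ, ← Nat.card_eq_fintype_card,
      ← Subgroup.index] at hv
    rw [← orderOf_eq_one_iff]
    obtain ⟨k, hk⟩ := IsPGroup.iff_orderOf.1 hmax.1.1.1 v
    refine Nat.eq_one_of_dvd_coprimes (k := orderOf v) (Nat.Coprime.pow_left k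
      (((Fact.out : p.Prime).coprime_iff_not_dvd).2 (not_dvd_index_centralizer_stab hpM hmax hab)))
      hk.dvd (orderOf_dvd_of_pow_eq_one hv)

lemma sum_dual_eq {A : Type*} [CommGroup A] [Finite A] [HasEnoughRootsOfUnity ℂ (Monoid.exponent A)]
    [Fintype (A →* ℂˣ)] [DecidableEq A] (a : A) :
    ∑ l : A →* ℂˣ, (l a : ℂ) = if a = 1 then (Fintype.card (A →* ℂˣ) : ℂ) else 0 := by
  split_ifs with h
  · simp [h]
  · obtain ⟨φ, hφ⟩ := CommGroup.exists_apply_ne_one_of_hasEnoughRootsOfUnity A ℂ h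
    have h1 : (φ a : ℂ) * ∑ l : A →* ℂˣ, (l a : ℂ) = ∑ l : A →* ℂˣ, (l a : ℂ) := by
      rw [Finset.mul_sum]
      exact Fintype.sum_equiv (Equiv.mulLeft φ) _ _ fun l => by simp
    have h2 : ((φ a : ℂ) - 1) * ∑ l : A →* ℂˣ, (l a : ℂ) = 0 := by rw [sub_mul, one_mul, h1, sub_self]
    exact (mul_eq_zero.1 h2).resolve_left (sub_ne_zero.2 fun h3 => hφ (Units.ext h3))

/-- The weighted ranks have the same sum on every coset of the kernel. -/
theorem coset_sum (hM : IsPModular p M) (hmax : IsMaximalBrauerPair p M B P e)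
    (hab : ∀ x ∈ P, ∀ y ∈ P, x * y = y * x) [Fintype P] {N : Subgroup P}
    (hN : ∀ t ∈ stabPair (⟨P, e⟩ : BrauerPairIdx G), ∀ v w : P, t * (v : G) * t⁻¹ = w → w * v⁻¹ ∈ N)
    [DecidablePred (· ∈ N)] (z : P) :
    ∑ v ∈ Finset.univ.filter (fun v : P => v * z⁻¹ ∈ N),
        (localRk p M e (Subgroup.centralizer (Subgroup.zpowers (v : G) : Set G)) : ℂ) /
          (orbitCard ⟨P, e⟩ (v : G) : ℂ) =
      ∑ v ∈ Finset.univ.filter (fun v : P => v ∈ N),
        (localRk p M e (Subgroup.centralizer (Subgroup.zpowers (v : G) : Set G)) : ℂ) /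
          (orbitCard ⟨P, e⟩ (v : G) : ℂ) := by
  classical
  have hpM := hM.2.2
  haveI := irrFintype G
  haveI : N.Normal := ⟨fun n hn g => by
    have : g * n * g⁻¹ = n := Subtype.ext (by
      push_cast
      rw [hab g g.2 n n.2, mul_inv_cancel_right])
    rwa [this]⟩
  letI : CommGroup (P ⧸ N) :=
    { QuotientGroup.Quotient.group N with
      mul_comm := fun a b => by
        induction a using QuotientGroup.induction_on with
        | H g =>
          induction b using QuotientGroup.induction_on with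
          | H k =>
            rw [← QuotientGroup.mk_mul, ← QuotientGroup.mk_mul]
            exact congrArg _ (Subtype.ext (hab g g.2 k k.2)) }
  haveI : HasEnoughRootsOfUnity ℂ (Monoid.exponent (P ⧸ N)) := by
    haveI : NeZero (Monoid.exponent (P ⧸ N) : ℂ) :=
      ⟨Nat.cast_ne_zero.2 Monoid.exponent_ne_zero_of_finite⟩
    infer_instance
  haveI := Fintype.ofFinite (P ⧸ N →* ℂˣ)
  set m : P → ℂ := fun v =>
    (localRk p M e (Subgroup.centralizer (Subgroup.zpowers (v : G) : Set G)) : ℂ) /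
      (orbitCard ⟨P, e⟩ (v : G) : ℂ) with hm
  -- the linear characters
  have hstable : ∀ l : P ⧸ N →* ℂˣ,
      IsPairStable p M ⟨P, e⟩ (linExt P (l.comp (QuotientGroup.mk' N))) := by
    intro l a g ha hga u hu
    have huP : u ∈ P := below_le ha hu
    have hgP : g * u * g⁻¹ ∈ P := below_le hga ⟨u, hu, rfl⟩
    obtain ⟨c, hc, hcT⟩ := exists_centralizer_conj_of_below hpM hmax hab
      (Q := (conjPair g a).1) (f := (conjPair g a).2) hga (x := g) (below_conj ha g)
    have h2 : (c * g) * u * (c * g)⁻¹ = g * u * g⁻¹ := by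
      have h := Subgroup.mem_centralizer_iff.1 hc (g * u * g⁻¹) ⟨u, hu, rfl⟩
      calc (c * g) * u * (c * g)⁻¹ = c * (g * u * g⁻¹) * c⁻¹ := by group
        _ = _ := by rw [← h, mul_inv_cancel_right]
    have h3 := hN _ hcT ⟨u, huP⟩ ⟨_, hgP⟩ h2
    rw [show linExt P (l.comp (QuotientGroup.mk' N)) (g * u * g⁻¹) = _ from
        linExt_coe _ (⟨_, hgP⟩ : P),
      show linExt P (l.comp (QuotientGroup.mk' N)) u = _ from linExt_coe _ (⟨u, huP⟩ : P)]
    simp only [MonoidHom.comp_apply, QuotientGroup.mk'_apply]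
    congr 2
    exact ((QuotientGroup.eq_iff_div_mem).2 (by rwa [div_eq_mul_inv]))
  -- only the trivial one fixes a character
  have hsum : ∀ l : P ⧸ N →* ℂˣ, ∑ v : P, (l (QuotientGroup.mk v) : ℂ) * m v =
      if l = 1 then (Nat.card B : ℂ) else 0 := by
    intro l
    split_ifs with hl
    · subst hl
      rw [card_eq_sum hM hmax hab]
      exact Finset.sum_congr rfl fun v _ => by simp [hm]
    · have h := sum_inner_starFun hM hmax hab (hstable l)
      refine Eq.trans ?_ (h.symm.trans (Finset.sum_eq_zero fun χ hχ => ?_))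
      · refine Finset.sum_congr rfl fun v _ => ?_
        rw [linExt_coe, hm]
        exact mul_div_assoc' _ _ _
      have hχB := (Finset.mem_filter.1 hχ).2
      set η := linExt P (l.comp (QuotientGroup.mk' N)) with hη
      have hirr : IsIrrCharacter G (starFun M p ⟨P, e⟩ η (χ : G → ℂ)) := by
        refine irr_of_norm_one (isGeneralized_starFun hpM hmax (hstable l) (isGeneralized_linExt _) χ)
          (inner_starFun_self (c := ⟨P, e⟩) hpM hmax (fun x hx => ?_) hχB) ?_
        · rw [hη, show linExt P (l.comp (QuotientGroup.mk' N)) x = _ from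
            linExt_coe _ (⟨x, hx⟩ : P), norm_linExt]
        · obtain ⟨n, hn⟩ := character_degree_nat (isCharacter_of_irr χ.2)
          rw [starFun_apply_one (c := ⟨P, e⟩) hpM hmax hχB, hη, linExt_one_apply, one_mul, hn]
          simp
      rw [Chars.inner_irr_of_isIrr hirr χ.2, if_neg]
      intro hfix
      refine hl (MonoidHom.ext fun a => ?_)
      induction a using QuotientGroup.induction_on with
      | H v =>
        obtain ⟨b, hb⟩ := CfsgLib.Blocks.exists_below (b := ⟨P, e⟩) hpM hmax.1.1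
          (Subgroup.zpowers (v : G)) (Subgroup.zpowers_le.2 v.2)
        obtain ⟨y, hy, hyr, hy0⟩ := exists_secVal_ne_zero_of_central hpM hmax v.2
          (Subgroup.mem_centralizer_iff.2 fun w hw => hab w hw v v.2) hb hχB
        have hv : ∃ k : ℕ, (v : G) ^ p ^ k = 1 := by
          obtain ⟨k, hk⟩ := hmax.1.1.1 v
          exact ⟨k, congrArg Subtype.val hk⟩
        have h := secVal_starFun hpM (hstable l) (isClassFunction_irr χ) hy hv hyr
          (mem_pairsAt.2 ⟨rfl, (below_isBrauerPair hb hmax.1.1).2⟩)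
        rw [← hη, hfix, pairWeight_eq (hstable l) (Subgroup.mem_zpowers _) (x := 1)
          (by rw [conjPair_one]; exact hb)] at h
        rw [one_mul, inv_one, mul_one, linExt_coe] at h
        exact Units.ext ((mul_left_eq_self₀.1 h.symm).resolve_right hy0)
  -- inversion
  have key : ∀ z : P, (Fintype.card (P ⧸ N →* ℂˣ) : ℂ) *
      ∑ v ∈ Finset.univ.filter (fun v : P => v * z⁻¹ ∈ N), m v = (Nat.card B : ℂ) := by
    intro z
    calc (Fintype.card (P ⧸ N →* ℂˣ) : ℂ) * ∑ v ∈ Finset.univ.filter (fun v : P => v * z⁻¹ ∈ N), m v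
        = ∑ v : P, (∑ l : P ⧸ N →* ℂˣ, (l ((v * z⁻¹ : P) : P ⧸ N) : ℂ)) * m v := by
          rw [Finset.mul_sum, Finset.sum_filter]
          refine Finset.sum_congr rfl fun v _ => ?_
          rw [sum_dual_eq, ite_mul, zero_mul]
          exact if_congr (QuotientGroup.eq_one_iff _).symm rfl rfl
      _ = ∑ l : P ⧸ N →* ℂˣ, (l ((z⁻¹ : P) : P ⧸ N) : ℂ) * ∑ v : P, (l (QuotientGroup.mk v) : ℂ) * m v := by
          simp only [Finset.sum_mul, Finset.mul_sum]
          rw [Finset.sum_comm]
          refine Finset.sum_congr rfl fun l _ => Finset.sum_congr rfl fun v _ => ?_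
          rw [QuotientGroup.mk_mul, map_mul, Units.val_mul]
          ring
      _ = _ := by simp [hsum, mul_ite]
  have hne : (Fintype.card (P ⧸ N →* ℂˣ) : ℂ) ≠ 0 := Nat.cast_ne_zero.2 Fintype.card_ne_zero
  refine mul_left_cancel₀ hne ((key z).trans ?_)
  have h := key 1
  simp only [inv_one, mul_one] at h
  exact h.symm

/-- The rank at the trivial subgroup. -/
lemma localRk_one (hpM : (p : AlgInt) ∈ M) (hmax : IsMaximalBrauerPair p M B P e)
    (hab : ∀ x ∈ P, ∀ y ∈ P, x * y = y * x) :
    localRk p M e (Subgroup.centralizer (Subgroup.zpowers (1 : G) : Set G)) = blockRank p B := by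
  obtain ⟨b₁, hb₁⟩ := CfsgLib.Blocks.exists_below (b := ⟨P, e⟩) hpM hmax.1.1 (Subgroup.zpowers (1 : G))
    (Subgroup.zpowers_le.2 P.one_mem)
  rw [localRk_eq hpM hmax.1.1 hab (Subgroup.zpowers_le.2 P.one_mem) hb₁]
  have hp₁ := (isBrauerPairOf_iff_of_below hpM hb₁ B).2 hmax.1
  have htop : Subgroup.centralizer ((Subgroup.zpowers (1 : G) : Subgroup G) : Set G) = ⊤ :=
    eq_top_iff.2 fun x _ => (mem_centralizer_zpowers_iff 1 x).2 (by simp)
  obtain ⟨B₀, hB₀, hcoef⟩ := exists_block_of_stable_top hpM hp₁.1 fun x =>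
    centralizer_le_stabPair hp₁.1.2 (htop ▸ Subgroup.mem_top x)
  rw [(existsUnique_block_of_pair hpM hp₁.1).unique hp₁ hB₀]
  exact blockRank_eq_of_blockCoeff_top htop hp₁.1.2 hB₀.2.1 hcoef

/-- The pair computed in the centralizer of an element of the defect group. -/
theorem exists_local_pair (hpM : (p : AlgInt) ∈ M) (hmax : IsMaximalBrauerPair p M B P e)
    (hab : ∀ x ∈ P, ∀ y ∈ P, x * y = y * x) {Q : Subgroup G} (hQ : Q ≤ P)
    {f : Set (IrrCharacter (Subgroup.centralizer (Q : Set G)))} (hf : Below p M ⟨Q, f⟩ ⟨P, e⟩)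
    [Fintype (Subgroup.centralizer (Q : Set G))] :
    ∃ (hPC : P ≤ Subgroup.centralizer (Q : Set G))
      (hCP : Subgroup.centralizer (P : Set G) ≤ Subgroup.centralizer (Q : Set G)),
      IsMaximalBrauerPair p M f (P.subgroupOf (Subgroup.centralizer (Q : Set G))) (relBlock hPC hCP e) := by
  have hQf := below_isBrauerPair hf hmax.1.1
  have hPC : P ≤ Subgroup.centralizer (Q : Set G) := le_centralizer_of_abelian hQ hab
  have hCP : Subgroup.centralizer (P : Set G) ≤ Subgroup.centralizer (Q : Set G) :=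
    centralizer_antitone hQ
  exact ⟨hPC, hCP, isMaximal_rel_of_maximal hpM hPC hCP hmax
    ((isBrauerPairOf_rel_iff hpM hPC hCP hmax.1.1.1 hmax.1.1.2 hQf.2).2
      (IsNormalSubpair.mul_cut hpM (isNormalSubpair_of_below (b := ⟨P, e⟩) hpM hmax.1.1 hf
        Relation.ReflTransGen.refl hQ (hPC.trans (centralizer_le_normalizer' Q)))))⟩

/-- The rank theorem in the centralizer of `v` compares two local ranks. -/
theorem localRk_step (hpM : (p : AlgInt) ∈ M) (hmax : IsMaximalBrauerPair p M B P e)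
    (hab : ∀ x ∈ P, ∀ y ∈ P, x * y = y * x) {u v : G} (hu : u ∈ P) (hv : v ∈ P)
    (hfix : ∀ t ∈ stabPair (⟨P, e⟩ : BrauerPairIdx G), t * u * t⁻¹ = u)
    (A : ∀ (H : Subgroup G) [Fintype H], H = Subgroup.centralizer (Subgroup.zpowers v : Set G) →
      ∀ {B' : Set (IrrCharacter H)} {P' : Subgroup H}
        {e' : Set (IrrCharacter (Subgroup.centralizer (P' : Set H)))} (w : H),
        IsMaximalBrauerPair p M B' P' e' → (∀ x ∈ P', ∀ y ∈ P', x * y = y * x) → w ∈ P' →
        (∀ t ∈ stabPair (⟨P', e'⟩ : BrauerPairIdx H), t * w * t⁻¹ = w) →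
        localRk p M e' (Subgroup.centralizer (Subgroup.zpowers w : Set H)) = blockRank p B') :
    localRk p M e (Subgroup.centralizer (Subgroup.zpowers u : Set G) ⊓
        Subgroup.centralizer (Subgroup.zpowers v : Set G)) =
      localRk p M e (Subgroup.centralizer (Subgroup.zpowers v : Set G)) := by
  haveI := Fintype.ofFinite (Subgroup.centralizer (Subgroup.zpowers v : Set G))
  have hQ : Subgroup.zpowers v ≤ P := Subgroup.zpowers_le.2 hv
  obtain ⟨f, hf⟩ := CfsgLib.Blocks.exists_below (b := ⟨P, e⟩) hpM hmax.1.1 _ hQ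
  obtain ⟨hPC, hCP, hmax'⟩ := exists_local_pair hpM hmax hab hQ hf
  rw [localRk_eq hpM hmax.1.1 hab hQ hf,
    ← A _ rfl (⟨u, hPC hu⟩ : Subgroup.centralizer (Subgroup.zpowers v : Set G)) hmax'
      (fun x hx y hy => Subtype.ext (hab _ hx _ hy)) hu
      (fun t ht => Subtype.ext (hfix _ ((conjPair_rel_iff hPC hCP hPC hCP e e t).1 ht))),
    centralizer_zpowers_subgroupOf (hPC hu), localRk_sub hPC hCP inf_le_right hmax.1.1.2]

theorem localRk_fixed_aux (hM : IsPModular p M) : ∀ n : ℕ,
    ∀ {G : Type u} [Group G] [Fintype G] {B : Set (IrrCharacter G)} {P : Subgroup G}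
      {e : Set (IrrCharacter (Subgroup.centralizer (P : Set G)))} (u : G),
      Nat.card G = n → IsMaximalBrauerPair p M B P e → (∀ x ∈ P, ∀ y ∈ P, x * y = y * x) → u ∈ P →
      (∀ t ∈ stabPair (⟨P, e⟩ : BrauerPairIdx G), t * u * t⁻¹ = u) →
      localRk p M e (Subgroup.centralizer (Subgroup.zpowers u : Set G)) = blockRank p B := by
  intro n
  induction n using Nat.strong_induction_on with
  | _ n ih =>
  intro G _ _ B P e u hn hmax hab hu hfix
  classical
  have hpM := hM.2.2
  haveI := Fintype.ofFinite P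
  obtain ⟨N, hN, hN1⟩ := exists_commutator_kernel hpM hmax hab
  -- the smaller centralizers
  have hA : ∀ v : G, Subgroup.centralizer (Subgroup.zpowers v : Set G) ≠ ⊤ → v ∈ P →
      localRk p M e (Subgroup.centralizer (Subgroup.zpowers u : Set G) ⊓
          Subgroup.centralizer (Subgroup.zpowers v : Set G)) =
        localRk p M e (Subgroup.centralizer (Subgroup.zpowers v : Set G)) := by
    intro v hne hv
    refine localRk_step hpM hmax hab hu hv hfix ?_
    intro H _ hH B' P' e' w h1 h2 h3 h4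
    refine ih _ ?_ w rfl h1 h2 h3 h4
    subst hH
    rw [← hn]
    exact lt_of_le_of_ne (Subgroup.card_le_card_group _) fun h => hne ((Subgroup.card_eq_iff_eq_top _).1 h)
  have hcent : ∀ v : G, Subgroup.centralizer (Subgroup.zpowers v : Set G) = ⊤ → ∀ g : G, g * v * g⁻¹ = v :=
    fun v h g => mul_inv_eq_of_eq_mul ((mem_centralizer_zpowers_iff v g).1 (h ▸ Subgroup.mem_top g))
  set u' : P := ⟨u, hu⟩ with hu'
  have hinter : ∀ w : P, Subgroup.centralizer (Subgroup.zpowers u : Set G) ⊓
      Subgroup.centralizer (Subgroup.zpowers ((w * u' : P) : G) : Set G) =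
      Subgroup.centralizer (Subgroup.zpowers u : Set G) ⊓
      Subgroup.centralizer (Subgroup.zpowers (w : G) : Set G) := by
    intro w
    ext g
    simp only [Subgroup.mem_inf, mem_centralizer_zpowers_iff, Subgroup.coe_mul, hu']
    refine and_congr_right fun hgu => ⟨fun h => ?_, fun h => ?_⟩
    · have : g * (w : G) * u = (w : G) * g * u := by
        calc g * (w : G) * u = g * ((w : G) * u) := mul_assoc _ _ _
          _ = (w : G) * u * g := h
          _ = (w : G) * g * u := by rw [mul_assoc, ← hgu, mul_assoc]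
      exact mul_right_cancel this
    · rw [← mul_assoc, h, mul_assoc, hgu, ← mul_assoc]
  have horb : ∀ w : P, orbitCard ⟨P, e⟩ ((w * u' : P) : G) = orbitCard ⟨P, e⟩ (w : G) := by
    intro w
    refine (Nat.card_congr (Equiv.subtypeEquiv (Equiv.mulRight u) fun x => ?_)).symm
    constructor
    · rintro ⟨t, ht, rfl⟩
      refine ⟨t, ht, ?_⟩
      show t * ((w : G) * u) * t⁻¹ = t * (w : G) * t⁻¹ * u
      conv_rhs => rw [← hfix t ht]
      group
    · rintro ⟨t, ht, hx⟩
      refine ⟨t, ht, mul_right_cancel (b := u) ?_⟩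
      show t * (w : G) * t⁻¹ * u = x * u
      rw [show x * u = (Equiv.mulRight u) x from rfl, ← hx, Subgroup.coe_mul,
        show ((u' : P) : G) = u from rfl]
      conv_lhs => rw [← hfix t ht]
      group
  set m : P → ℂ := fun v =>
    (localRk p M e (Subgroup.centralizer (Subgroup.zpowers (v : G) : Set G)) : ℂ) /
      (orbitCard ⟨P, e⟩ (v : G) : ℂ) with hm
  have h := coset_sum hM hmax hab hN u'
  rw [show ∑ v ∈ Finset.univ.filter (fun v : P => v * u'⁻¹ ∈ N), m v =
      ∑ w ∈ Finset.univ.filter (fun w : P => w ∈ N), m (w * u') from ?_] at h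
  swap
  · refine Finset.sum_bij' (fun v _ => v * u'⁻¹) (fun w _ => w * u')
      (fun v hv => Finset.mem_filter.2 ⟨Finset.mem_univ _, (Finset.mem_filter.1 hv).2⟩)
      (fun w hw => Finset.mem_filter.2 ⟨Finset.mem_univ _, by
        rw [mul_inv_cancel_right]; exact (Finset.mem_filter.1 hw).2⟩)
      (fun v _ => inv_mul_cancel_right v u') (fun w _ => mul_inv_cancel_right w u') fun v _ => ?_
    rw [inv_mul_cancel_right]
  have h1 : (1 : P) ∈ Finset.univ.filter (fun w : P => w ∈ N) :=
    Finset.mem_filter.2 ⟨Finset.mem_univ _, one_mem N⟩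
  rw [← Finset.add_sum_erase _ _ h1, ← Finset.add_sum_erase _ (fun w => m w) h1,
    Finset.sum_congr rfl (g := m) fun w hw => ?_] at h
  swap
  · obtain ⟨hw1, hwN⟩ := Finset.mem_erase.1 hw
    have hwN' := (Finset.mem_filter.1 hwN).2
    simp only [hm, horb w]
    congr 2
    rw [← hA _ (fun hc => hw1 (hN1 w hwN' fun t ht => ?_)) (w * u').2, hinter w,
      hA _ (fun hc => hw1 (hN1 w hwN' fun t _ => hcent _ hc t)) w.2]
    refine mul_right_cancel (b := u) ?_
    have h5 := hcent _ hc t
    rw [Subgroup.coe_mul, show ((u' : P) : G) = u from rfl] at h5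
    conv_rhs => rw [← h5]
    conv_lhs => rw [← hfix t ht]
    group
  have h2 := add_right_cancel h
  simp only [hm, one_mul] at h2
  have h3 : orbitCard ⟨P, e⟩ (u' : G) = orbitCard ⟨P, e⟩ ((1 : P) : G) := by
    rw [← horb 1, one_mul]
  rw [h3, div_left_inj' (Nat.cast_ne_zero.2 (orbitCard_pos _ _).ne')] at h2
  have h4 : localRk p M e (Subgroup.centralizer (Subgroup.zpowers u : Set G)) =
      localRk p M e (Subgroup.centralizer (Subgroup.zpowers ((1 : P) : G) : Set G)) := by exact_mod_cast h2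
  rw [h4, Subgroup.coe_one, localRk_one hpM hmax hab]

/-- **Watanabe's theorem.** -/
theorem main (hM : IsPModular p M) (hmax : IsMaximalBrauerPair p M B P e)
    (hab : ∀ x ∈ P, ∀ y ∈ P, x * y = y * x) {u : G} (hu : u ∈ P)
    (hfix : ∀ t ∈ stabPair (⟨P, e⟩ : BrauerPairIdx G), t * u * t⁻¹ = u)
    {f : Set (IrrCharacter (Subgroup.centralizer (Subgroup.zpowers u : Set G)))}
    (hf : Below p M ⟨Subgroup.zpowers u, f⟩ ⟨P, e⟩) :
    blockRank p B = blockRank p f ∧ Nat.card B = Nat.card f := by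
  classical
  have hpM := hM.2.2
  have hQ : Subgroup.zpowers u ≤ P := Subgroup.zpowers_le.2 hu
  refine ⟨by rw [← localRk_eq hpM hmax.1.1 hab hQ hf, localRk_fixed_aux hM _ u rfl hmax hab hu hfix], ?_⟩
  haveI := Fintype.ofFinite (Subgroup.centralizer (Subgroup.zpowers u : Set G))
  haveI := Fintype.ofFinite P
  obtain ⟨hPC, hCP, hmax'⟩ := exists_local_pair hpM hmax hab hQ hf
  haveI := Fintype.ofFinite (P.subgroupOf (Subgroup.centralizer (Subgroup.zpowers u : Set G)))
  have hT : stabPair (⟨P, e⟩ : BrauerPairIdx G) ≤ Subgroup.centralizer (Subgroup.zpowers u : Set G) :=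
    fun t ht => (mem_centralizer_zpowers_iff u t).2 (mul_inv_eq_iff_eq_mul.1 (hfix t ht))
  apply Nat.cast_injective (R := ℂ)
  rw [card_eq_sum hM hmax hab, card_eq_sum hM hmax' fun x hx y hy => Subtype.ext (hab _ hx _ hy)]
  refine (Fintype.sum_equiv (Subgroup.subgroupOfEquivOfLe hPC).toEquiv _ _ fun v => ?_).symm
  have hv : ((v : Subgroup.centralizer (Subgroup.zpowers u : Set G)) : G) ∈ P := v.2
  rw [orbitCard_sub hPC hCP hT]
  show (localRk p M (relBlock hPC hCP e) _ : ℂ) / _ =
    (localRk p M e (Subgroup.centralizer (Subgroup.zpowers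
      ((v : Subgroup.centralizer (Subgroup.zpowers u : Set G)) : G) : Set G)) : ℂ) / _
  congr 2
  rw [centralizer_zpowers_subgroupOf (v : Subgroup.centralizer (Subgroup.zpowers u : Set G)).2,
    localRk_sub hPC hCP inf_le_right hmax.1.1.2, inf_comm]
  refine localRk_step hpM hmax hab hu hv hfix ?_
  intro H _ _ B' P' e' w h1 h2 h3 h4
  exact localRk_fixed_aux hM _ w rfl h1 h2 h3 h4

end CfsgLib.CharsMore.Watanabe
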