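import Cfsg.Agent.Lib.Blocks.StarNonzero
import Cfsg.Agent.Lib.Blocks.TrivialInertia
import Cfsg.Agent.Lib.Blocks.FreeAction

/-!
# The trace of a product with a stable function on a block with abelian defect group

For a stable function `η` on the defect group `P`, the sum over the block of `⟨η * χ, χ⟩` is a sum
over `P` of values of `η` weighted by the local ranks and the sizes of the inertial orbits.
-/

set_option autoImplicit false
set_option linter.unusedSectionVars false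
set_option linter.style.haveILetI false

namespace CfsgLib.CharsMore.Watanabe

open Cfsg CfsgLib.Blocks CfsgLib.BlockOrth CfsgLib.Chars
open scoped ComplexConjugate

variable {G : Type*} [Group G] [Fintype G] {M : Ideal AlgInt} [M.IsPrime] {p : ℕ} [Fact p.Prime]
  {B : Set (IrrCharacter G)} {P : Subgroup G}

/-- The rank of the block of `K` induced by a block of the centralizer of `P`. -/
noncomputable def localRk (p : ℕ) (M : Ideal AlgInt) {P : Subgroup G}
    (e : Set (IrrCharacter (Subgroup.centralizer (P : Set G)))) (K : Subgroup G) : ℕ :=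
  ∑ᶠ f ∈ {f : Set (IrrCharacter K) | IsInducedBlockIn M K (Subgroup.centralizer (P : Set G)) e f},
    blockRank p f

/-- The size of an inertial orbit. -/
noncomputable def orbitCard (c : BrauerPairIdx G) (v : G) : ℕ :=
  Nat.card {w : G // ∃ h ∈ stabPair c, h * v * h⁻¹ = w}

lemma orbitCard_pos (c : BrauerPairIdx G) (v : G) : 0 < orbitCard c v := by
  haveI : Nonempty {w : G // ∃ h ∈ stabPair c, h * v * h⁻¹ = w} := ⟨⟨v, 1, one_mem _, by simp⟩⟩
  exact Nat.card_pos

variable {e : Set (IrrCharacter (Subgroup.centralizer (P : Set G)))}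

/-- The rank at a subgroup of the defect group is the rank of the pair below. -/
lemma localRk_eq (hpM : (p : AlgInt) ∈ M) (hPe : IsBrauerPair p M P e)
    (hab : ∀ x ∈ P, ∀ y ∈ P, x * y = y * x) {Q : Subgroup G} (hQ : Q ≤ P)
    {f : Set (IrrCharacter (Subgroup.centralizer (Q : Set G)))}
    (hf : Below p M ⟨Q, f⟩ ⟨P, e⟩) :
    localRk p M e (Subgroup.centralizer (Q : Set G)) = blockRank p f := by
  have hset : {f' | IsInducedBlockIn M (Subgroup.centralizer (Q : Set G))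
      (Subgroup.centralizer (P : Set G)) e f'} = {f} := by
    ext f'
    refine ⟨fun h => ?_, fun h => ?_⟩
    · exact below_unique (b := ⟨P, e⟩) hpM hPe ((induced_iff_below hpM hPe hab hQ).1 h) hf
    · rw [Set.mem_singleton_iff] at h
      subst h
      exact (induced_iff_below hpM hPe hab hQ).2 hf
  rw [localRk, hset, finsum_mem_singleton]

lemma blockRank_conjBlock (Q : Subgroup G) (x : G)
    (f : Set (IrrCharacter (Subgroup.centralizer (Q : Set G)))) :
    blockRank p (conjBlock Q x f) = blockRank p f := by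
  rw [conjBlock_eq, conjImage, blockRank_image_pullIrr]

lemma mk_eq_of_fst {a : BrauerPairIdx G} {Q : Subgroup G} (h : a.1 = Q) :
    ∃ b, a = (⟨Q, b⟩ : BrauerPairIdx G) := by
  obtain ⟨Q', b⟩ := a
  obtain rfl : Q' = Q := h
  exact ⟨b, rfl⟩

/-- The parts of the characters of a block at one of its pairs. -/
lemma sum_secPair_block [Fintype (IrrCharacter G)] [DecidablePred (· ∈ B)] (hM : IsPModular p M)
    {x : G} (hx : ∃ k, orderOf x = p ^ k)
    {b : Set (IrrCharacter (Subgroup.centralizer (Subgroup.zpowers x : Set G)))}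
    (hb : IsBrauerPairOf p M B (Subgroup.zpowers x) b) :
    ∑ χ ∈ Finset.univ.filter (· ∈ B), secPair p x ⟨Subgroup.zpowers x, b⟩ (χ : G → ℂ) (χ : G → ℂ) =
      (Nat.card (Subgroup.centralizer (Subgroup.zpowers x : Set G)) : ℂ) * (blockRank p b : ℂ) := by
  classical
  have hpM := hM.2.2
  haveI := Fintype.ofFinite (Subgroup.centralizer (Subgroup.zpowers x : Set G))
  haveI := irrFintype (Subgroup.centralizer (Subgroup.zpowers x : Set G))
  have hH : ∀ c : G, c ∈ Subgroup.centralizer (Subgroup.zpowers x : Set G) ↔ c * x = x * c :=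
    mem_centralizer_zpowers_iff x
  have hind : IsInducedBlock M (Subgroup.centralizer (Subgroup.zpowers x : Set G)) b B :=
    isInducedBlock_centralizer_of_pair hpM hb
  rw [← sum_secFun_sq hM hH hx hind, Finset.mul_sum]
  refine Finset.sum_congr rfl fun χ _ => ?_
  set ψ := secFun (Subgroup.centralizer (Subgroup.zpowers x : Set G)) x (χ : G → ℂ) with hψ
  have h1 : ∑ η ∈ Finset.univ.filter (· ∈ b),
      classInner (pRegularPart p ψ) (η : _ → ℂ) * conj (classInner (pRegularPart p ψ) (η : _ → ℂ)) =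
      classInner (pRegularPart p (blockPart b ψ)) (pRegularPart p (blockPart b ψ)) := by
    rw [inner_eq_sum (isClassFunction_pRegularPart (isClassFunction_blockPart _ _)), Finset.sum_filter]
    refine Finset.sum_congr rfl fun η _ => ?_
    rw [inner_pRegularPart_blockPart hpM hb.1.2 (isClassFunction_secFun_zpowers (isClassFunction_irr χ) x)]
    split_ifs <;> first | rfl | simp
  rw [h1, inner_def, ← mul_assoc, mul_inv_cancel₀ (Chars.card_ne_zero _), one_mul, secPair]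
  symm
  refine Finset.sum_bij_ne_zero (fun h _ _ => (h : G)) (fun h _ hh => ?_) (by simp)
    (fun y hy hne' => ?_) (fun h _ hh => ?_)
  · refine Finset.mem_filter.2 ⟨Finset.mem_univ _, ((hH h).1 h.2).symm, fun hreg => hh ?_⟩
    rw [Subgroup.orderOf_coe] at hreg
    rw [pRegularPart_apply, if_neg (not_not.2 hreg), zero_mul]
  · obtain ⟨-, hc, hr⟩ := Finset.mem_filter.1 hy
    refine ⟨⟨y, (hH y).2 hc.symm⟩, Finset.mem_univ _, ?_, rfl⟩
    rw [pRegularPart_apply, if_pos (by rwa [← Subgroup.orderOf_coe]),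
      ← secVal_eq_blockPart (isClassFunction_irr χ)]
    exact hne'
  · by_cases hr : ¬ p ∣ orderOf h
    · rw [pRegularPart_apply, if_pos hr, ← secVal_eq_blockPart (isClassFunction_irr χ)]
    · exact absurd (by rw [pRegularPart_apply, if_neg hr, zero_mul]) hh

/-- **The trace formula.** -/
theorem sum_inner_starFun [Fintype (IrrCharacter G)] [DecidablePred (· ∈ B)] [Fintype P]
    (hM : IsPModular p M) (hmax : IsMaximalBrauerPair p M B P e)
    (hab : ∀ x ∈ P, ∀ y ∈ P, x * y = y * x) {η : G → ℂ} (hη : IsPairStable p M ⟨P, e⟩ η) :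
    ∑ χ ∈ Finset.univ.filter (· ∈ B),
        classInner (starFun M p ⟨P, e⟩ η (χ : G → ℂ)) (χ : G → ℂ) =
      ∑ v : P, η (v : G) * (localRk p M e (Subgroup.centralizer (Subgroup.zpowers (v : G) : Set G)) : ℂ) /
        (orbitCard ⟨P, e⟩ (v : G) : ℂ) := by
  classical
  have hpM := hM.2.2
  have hPe : IsBrauerPair p M P e := hmax.1.1
  choose f hf using fun v : P => CfsgLib.Blocks.exists_below (b := ⟨P, e⟩) hpM hPe
    (Subgroup.zpowers (v : G)) (Subgroup.zpowers_le.2 v.2)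
  let pr : P → BrauerPairIdx G := fun v => ⟨Subgroup.zpowers (v : G), f v⟩
  have hrk : ∀ v : P, localRk p M e (Subgroup.centralizer (Subgroup.zpowers (v : G) : Set G)) =
      blockRank p (f v) := fun v => localRk_eq hpM hPe hab (Subgroup.zpowers_le.2 v.2) (hf v)
  have hpow : ∀ v : P, ∃ k : ℕ, (v : G) ^ p ^ k = 1 := fun v => by
    obtain ⟨k, hk⟩ := hPe.1 v
    exact ⟨k, congrArg Subtype.val hk⟩
  -- the sections of the block
  let pel : Finset G := Finset.univ.filter fun x : G => ∃ k : ℕ, x ^ p ^ k = 1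
  let T : G → Finset (BrauerPairIdx G) := fun x =>
    (pairsAt M x).filter fun a => IsBrauerPairOf p M B a.1 a.2
  let S := pel.sigma T
  have hS : ∀ x a, (⟨x, a⟩ : Σ _ : G, BrauerPairIdx G) ∈ S ↔
      (∃ k : ℕ, x ^ p ^ k = 1) ∧ a.1 = Subgroup.zpowers x ∧ IsBrauerPairOf p M B a.1 a.2 := by
    intro x a
    simp only [S, pel, T, Finset.mem_sigma, Finset.mem_filter, Finset.mem_univ, true_and, mem_pairsAt]
    exact ⟨fun h => ⟨h.1, h.2.1.1, h.2.2⟩, fun h => ⟨h.1, ⟨h.2.1, h.2.2.1.2⟩, h.2.2⟩⟩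
  let Ψ : G × P → Σ _ : G, BrauerPairIdx G := fun gv =>
    ⟨gv.1 * (gv.2 : G) * gv.1⁻¹, conjPair gv.1 (pr gv.2)⟩
  have hΨS : ∀ gv ∈ (Finset.univ : Finset (G × P)), Ψ gv ∈ S := by
    rintro ⟨g, v⟩ -
    refine (hS _ _).2 ⟨?_, map_zpowers_conj g (v : G),
      isBrauerPairOf_conj ((isBrauerPairOf_iff_of_below hpM (hf v) B).2 hmax.1) g⟩
    obtain ⟨k, hk⟩ := hpow v
    exact ⟨k, by rw [conj_pow, hk, mul_one, mul_inv_cancel]⟩
  -- moving inside the inertial group
  have hmove : ∀ (v w : P) (h : G), h ∈ stabPair (⟨P, e⟩ : BrauerPairIdx G) →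
      h * (v : G) * h⁻¹ = w → conjPair h (pr v) = pr w := by
    intro v w h hh hvw
    obtain ⟨b, hb⟩ := mk_eq_of_fst (a := conjPair h (pr v)) (Q := Subgroup.zpowers (w : G))
      (hvw ▸ map_zpowers_conj h (v : G))
    have h1 := below_conj (hf v) h
    rw [show conjPair h ⟨P, e⟩ = ⟨P, e⟩ from hh] at h1
    change Below p M (conjPair h (pr v)) _ at h1
    rw [hb] at h1 ⊢
    obtain rfl := below_unique (b := ⟨P, e⟩) hpM hPe h1 (hf w)
    rfl
  -- the weight of a section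
  let W : (Σ _ : G, BrauerPairIdx G) → ℂ := fun s =>
    pairWeight p M ⟨P, e⟩ η s.2 s.1 * ((Nat.card (Subgroup.centralizer (Subgroup.zpowers s.1 : Set G)) : ℂ) *
      (blockRank p s.2.2 : ℂ))
  have hleft : (Nat.card G : ℂ) * ∑ χ ∈ Finset.univ.filter (· ∈ B),
      classInner (starFun M p ⟨P, e⟩ η (χ : G → ℂ)) (χ : G → ℂ) = ∑ s ∈ S, W s := by
    rw [Finset.mul_sum, Finset.sum_congr rfl fun χ _ => by
      rw [inner_starFun_fun hpM (isClassFunction_irr χ) (isClassFunction_irr χ), ← mul_assoc,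
        mul_inv_cancel₀ (Chars.card_ne_zero G), one_mul]]
    rw [Finset.sum_comm, Finset.sum_sigma]
    refine Finset.sum_congr rfl fun x hx => ?_
    rw [Finset.sum_comm, Finset.sum_filter]
    refine Finset.sum_congr rfl fun a ha => ?_
    have hxp := (Finset.mem_filter.1 hx).2
    obtain ⟨hfst, -⟩ := mem_pairsAt.1 ha
    split_ifs with hBa
    · obtain ⟨b, rfl⟩ := mk_eq_of_fst hfst
      rw [← Finset.mul_sum, sum_secPair_block hM ?_ hBa]
      obtain ⟨k, hk⟩ := hxp
      obtain ⟨i, -, hi⟩ := (Nat.dvd_prime_pow (Fact.out (p := p.Prime))).1 (orderOf_dvd_of_pow_eq_one hk)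
      exact ⟨i, hi⟩
    · refine Finset.sum_eq_zero fun χ hχ => mul_eq_zero_of_right _ ?_
      exact secPair_eq_zero_of_block hpM hmax.1.2.1 (Finset.mem_filter.1 hχ).2 hxp ha hBa _
  -- every section is reached, and the fibres
  have hfib : ∀ s ∈ S, ∑ gv ∈ Finset.univ.filter (fun gv => Ψ gv = s),
      η (gv.2 : G) * (localRk p M e (Subgroup.centralizer (Subgroup.zpowers (gv.2 : G) : Set G)) : ℂ) /
        (orbitCard ⟨P, e⟩ (gv.2 : G) : ℂ) = W s := by
    rintro ⟨x, a⟩ hs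
    obtain ⟨hxp, hfst, hBa⟩ := (hS x a).1 hs
    obtain ⟨y, hy⟩ := exists_conj_below (b := ⟨P, e⟩) hpM hmax hBa
    obtain ⟨b, rfl⟩ := mk_eq_of_fst hfst
    have hv₀P : y * x * y⁻¹ ∈ P := below_le hy ⟨x, Subgroup.mem_zpowers _, rfl⟩
    set v₀ : P := ⟨_, hv₀P⟩ with hv₀
    obtain ⟨g₀, hg₀⟩ : ∃ g₀ : G, g₀ = y⁻¹ := ⟨_, rfl⟩
    have hx₀ : g₀ * (v₀ : G) * g₀⁻¹ = x := by rw [hg₀, hv₀]; group
    have hbase : conjPair g₀ (pr v₀) = (⟨Subgroup.zpowers x, b⟩ : BrauerPairIdx G) := by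
      obtain ⟨b', hb'⟩ := mk_eq_of_fst (a := conjPair y (⟨Subgroup.zpowers x, b⟩ : BrauerPairIdx G))
        (Q := Subgroup.zpowers (v₀ : G)) (map_zpowers_conj y x)
      rw [hb'] at hy
      obtain rfl := below_unique (b := ⟨P, e⟩) hpM hPe hy (hf v₀)
      show conjPair g₀ (⟨_, f v₀⟩ : BrauerPairIdx G) = _
      rw [← hb', conjPair_mul, hg₀, inv_mul_cancel, conjPair_one]
    -- the orbit
    have horbP : ∀ w : {w : G // ∃ h ∈ stabPair (⟨P, e⟩ : BrauerPairIdx G), h * (v₀ : G) * h⁻¹ = w},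
        w.1 ∈ P := by
      rintro ⟨w, h, hh, rfl⟩
      exact (Subgroup.mem_normalizer_iff.1 (stabPair_le_normalizer _ hh) _).1 v₀.2
    choose h hhT hhv using fun w : {w : G // ∃ h ∈ stabPair (⟨P, e⟩ : BrauerPairIdx G),
      h * (v₀ : G) * h⁻¹ = w} => w.2
    have hgw : ∀ w, (g₀ * (h w)⁻¹) * w.1 * (g₀ * (h w)⁻¹)⁻¹ = x ∧
        conjPair (g₀ * (h w)⁻¹) (pr ⟨w.1, horbP w⟩) = (⟨Subgroup.zpowers x, b⟩ : BrauerPairIdx G) := by
      intro w
      refine ⟨?_, ?_⟩
      · rw [← hhv w, ← hx₀]; group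
      · rw [← hmove v₀ ⟨w.1, horbP w⟩ (h w) (hhT w) (hhv w), conjPair_mul, inv_mul_cancel_right, hbase]
    have horb : ∀ (g : G) (v : P), Ψ (g, v) = ⟨x, ⟨Subgroup.zpowers x, b⟩⟩ →
        ∃ h ∈ stabPair (⟨P, e⟩ : BrauerPairIdx G), h * (v₀ : G) * h⁻¹ = (v : G) := by
      intro g v hgv
      obtain ⟨hgx, hgp⟩ : g * (v : G) * g⁻¹ = x ∧
          conjPair g (pr v) = (⟨Subgroup.zpowers x, b⟩ : BrauerPairIdx G) :=
        ⟨congrArg Sigma.fst hgv, eq_of_heq (Sigma.mk.inj_iff.1 hgv).2⟩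
      have h1 : conjPair (g₀⁻¹ * g) (pr v) = pr v₀ := by
        rw [← conjPair_mul, hgp, ← hbase, conjPair_mul, inv_mul_cancel, conjPair_one]
      have h2 := below_conj (hf v) (g₀⁻¹ * g)
      change Below p M (conjPair (g₀⁻¹ * g) (pr v)) _ at h2
      rw [h1] at h2
      obtain ⟨c, hc, hcT⟩ := exists_centralizer_conj_of_below hpM hmax hab (hf v₀) h2
      refine ⟨_, inv_mem hcT, ?_⟩
      have h3 := Subgroup.mem_centralizer_iff.1 hc (v₀ : G) (Subgroup.mem_zpowers _)
      have h4 : (g₀⁻¹ * g) * (v : G) * (g₀⁻¹ * g)⁻¹ = v₀ := by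
        calc (g₀⁻¹ * g) * (v : G) * (g₀⁻¹ * g)⁻¹ = g₀⁻¹ * (g * (v : G) * g⁻¹) * g₀ := by group
          _ = _ := by rw [hgx, ← hx₀]; group
      calc (c * (g₀⁻¹ * g))⁻¹ * (v₀ : G) * ((c * (g₀⁻¹ * g))⁻¹)⁻¹
          = (g₀⁻¹ * g)⁻¹ * (c⁻¹ * ((v₀ : G) * c)) * (g₀⁻¹ * g) := by group
        _ = (g₀⁻¹ * g)⁻¹ * (v₀ : G) * (g₀⁻¹ * g) := by rw [h3, inv_mul_cancel_left]
        _ = v := by rw [← h4]; group
    have hcard : (Finset.univ.filter fun gv : G × P => Ψ gv = ⟨x, ⟨Subgroup.zpowers x, b⟩⟩).card =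
        orbitCard ⟨P, e⟩ (v₀ : G) * Nat.card (Subgroup.centralizer (Subgroup.zpowers x : Set G)) := by
      rw [← Fintype.card_subtype, ← Nat.card_eq_fintype_card, orbitCard, ← Nat.card_prod]
      refine (Nat.card_congr (Equiv.ofBijective (fun wc =>
        (⟨((wc.2 : G) * (g₀ * (h wc.1)⁻¹), ⟨wc.1.1, horbP wc.1⟩), ?_⟩ :
          {gv : G × P // Ψ gv = ⟨x, ⟨Subgroup.zpowers x, b⟩⟩})) ⟨fun wc wc' hwc => ?_, fun gv => ?_⟩)).symm
      · obtain ⟨h1, h2⟩ := hgw wc.1
        refine Sigma.ext ?_ (heq_of_eq ?_)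
        · show (wc.2 : G) * (g₀ * (h wc.1)⁻¹) * wc.1.1 * ((wc.2 : G) * (g₀ * (h wc.1)⁻¹))⁻¹ = x
          calc _ = (wc.2 : G) * ((g₀ * (h wc.1)⁻¹) * wc.1.1 * (g₀ * (h wc.1)⁻¹)⁻¹) * (wc.2 : G)⁻¹ := by group
            _ = x := by
              rw [h1, ← Subgroup.mem_centralizer_iff.1 wc.2.2 x (Subgroup.mem_zpowers x), mul_inv_cancel_right]
        · show conjPair ((wc.2 : G) * (g₀ * (h wc.1)⁻¹)) (pr ⟨wc.1.1, horbP wc.1⟩) = _
          rw [← conjPair_mul, h2]
          exact centralizer_le_stabPair hBa.1.2 wc.2.2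
      · obtain ⟨e1, e2⟩ := Prod.ext_iff.1 (congrArg Subtype.val hwc)
        have e3 : wc.1 = wc'.1 := Subtype.ext (congrArg Subtype.val e2 :)
        refine Prod.ext e3 (Subtype.ext ?_)
        have e4 : (wc.2 : G) * (g₀ * (h wc.1)⁻¹) = (wc'.2 : G) * (g₀ * (h wc'.1)⁻¹) := e1
        rw [e3] at e4
        exact mul_right_cancel e4
      · obtain ⟨⟨g, v⟩, hgv⟩ := gv
        obtain ⟨h1, -⟩ := hgw ⟨v, horb g v hgv⟩
        have hgx : g * (v : G) * g⁻¹ = x := congrArg Sigma.fst hgv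
        refine ⟨(⟨v, horb g v hgv⟩, ⟨g * (g₀ * (h ⟨v, horb g v hgv⟩)⁻¹)⁻¹, ?_⟩), ?_⟩
        · rw [mem_centralizer_zpowers_iff]
          calc g * (g₀ * (h ⟨v, horb g v hgv⟩)⁻¹)⁻¹ * x
              = g * (v : G) * (g₀ * (h ⟨v, horb g v hgv⟩)⁻¹)⁻¹ := by
                conv_lhs => rw [← h1]
                group
            _ = x * (g * (g₀ * (h ⟨v, horb g v hgv⟩)⁻¹)⁻¹) := by rw [← hgx]; group
        · refine Subtype.ext (Prod.ext ?_ rfl)
          exact inv_mul_cancel_right _ _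
    have hterm : ∀ gv ∈ Finset.univ.filter (fun gv : G × P => Ψ gv = ⟨x, ⟨Subgroup.zpowers x, b⟩⟩),
        η (gv.2 : G) * (localRk p M e (Subgroup.centralizer (Subgroup.zpowers (gv.2 : G) : Set G)) : ℂ) /
            (orbitCard ⟨P, e⟩ (gv.2 : G) : ℂ) =
          pairWeight p M ⟨P, e⟩ η ⟨Subgroup.zpowers x, b⟩ x * (blockRank p b : ℂ) /
            (orbitCard ⟨P, e⟩ (v₀ : G) : ℂ) := by
      rintro ⟨g, v⟩ hgv
      have hgv' := (Finset.mem_filter.1 hgv).2
      obtain ⟨hgx, hgp⟩ : g * (v : G) * g⁻¹ = x ∧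
          conjPair g (pr v) = (⟨Subgroup.zpowers x, b⟩ : BrauerPairIdx G) :=
        ⟨congrArg Sigma.fst hgv', eq_of_heq (Sigma.mk.inj_iff.1 hgv').2⟩
      obtain ⟨k, hk, hkv⟩ := horb g v hgv'
      have ho : orbitCard ⟨P, e⟩ (v : G) = orbitCard ⟨P, e⟩ (v₀ : G) := by
        refine Nat.card_congr (Equiv.subtypeEquivRight fun w => ?_)
        constructor
        · rintro ⟨l, hl, rfl⟩
          exact ⟨l * k, mul_mem hl hk, by rw [← hkv]; group⟩
        · rintro ⟨l, hl, rfl⟩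
          exact ⟨l * k⁻¹, mul_mem hl (inv_mem hk), by rw [← hkv]; group⟩
      have hr : blockRank p (f v) = blockRank p b := by
        have h1 := congrArg (fun a : BrauerPairIdx G => blockRank p a.2) hgp
        simp only at h1
        rw [← h1]
        exact (blockRank_conjBlock _ _ _).symm
      have hw : pairWeight p M ⟨P, e⟩ η ⟨Subgroup.zpowers x, b⟩ x = η (v : G) := by
        rw [pairWeight_eq hη (Subgroup.mem_zpowers x) (x := g⁻¹) (by
          rw [← hgp, conjPair_mul, inv_mul_cancel, conjPair_one]; exact hf v)]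
        congr 1
        rw [← hgx]
        group
      show η (v : G) * _ / _ = _
      rw [ho, hrk v, hr, hw]
    rw [Finset.sum_congr rfl hterm, Finset.sum_const, hcard, nsmul_eq_mul]
    have h0 : (orbitCard ⟨P, e⟩ (v₀ : G) : ℂ) ≠ 0 := Nat.cast_ne_zero.2 (orbitCard_pos _ _).ne'
    simp only [W]
    generalize Nat.card (Subgroup.centralizer (Subgroup.zpowers x : Set G)) = n
    push_cast
    field_simp
  have hright := (Finset.sum_fiberwise_of_maps_to hΨS fun gv =>
    η (gv.2 : G) * (localRk p M e (Subgroup.centralizer (Subgroup.zpowers (gv.2 : G) : Set G)) : ℂ) /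
      (orbitCard ⟨P, e⟩ (gv.2 : G) : ℂ)).symm
  rw [Finset.sum_congr rfl hfib, ← hleft, Fintype.sum_prod_type] at hright
  simp only [Finset.sum_const, Finset.card_univ, nsmul_eq_mul, ← Nat.card_eq_fintype_card] at hright
  exact (mul_left_cancel₀ (Chars.card_ne_zero G) hright).symm

/-- The number of characters as a sum over the defect group. -/
theorem card_eq_sum [Fintype P] (hM : IsPModular p M) (hmax : IsMaximalBrauerPair p M B P e)
    (hab : ∀ x ∈ P, ∀ y ∈ P, x * y = y * x) :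
    (Nat.card B : ℂ) =
      ∑ v : P, (localRk p M e (Subgroup.centralizer (Subgroup.zpowers (v : G) : Set G)) : ℂ) /
        (orbitCard ⟨P, e⟩ (v : G) : ℂ) := by
  classical
  haveI := irrFintype G
  have h := sum_inner_starFun hM hmax hab (η := fun _ => 1) (fun _ _ _ _ _ _ => rfl)
  simp only [one_mul] at h
  rw [← h, Finset.sum_congr rfl (g := fun _ => (1 : ℂ)) fun χ hχ => by
    rw [starFun_one (c := ⟨P, e⟩) hM.2.2 hmax (Finset.mem_filter.1 hχ).2, inner_irr_self χ]]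
  rw [Finset.sum_const, nsmul_eq_mul, mul_one, Nat.card_eq_fintype_card, Fintype.card_subtype]

end CfsgLib.CharsMore.Watanabe
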