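import Cfsg.Agent.Lib.CharsMore.Watanabe.SectionTrace

/-!
# Local ranks computed in a subgroup
-/

set_option autoImplicit false
set_option linter.unusedSectionVars false
set_option linter.style.haveILetI false

namespace CfsgLib.CharsMore.Watanabe

open Cfsg CfsgLib.Blocks CfsgLib.BlockOrth CfsgLib.Chars

variable {G : Type*} [Group G] [Fintype G] {M : Ideal AlgInt} [M.IsPrime] {p : ℕ} [Fact p.Prime]
  {P H K : Subgroup G}

lemma inducedCentralCharIn_sub (hPH : P ≤ H) (hC : Subgroup.centralizer (P : Set G) ≤ H) (hKH : K ≤ H)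
    (ξ : IrrCharacter (Subgroup.centralizer (P : Set G))) (h : H) :
    inducedCentralCharIn (K.subgroupOf H) (Subgroup.centralizer (P.subgroupOf H : Set H))
        (pullIrr (relIso hPH hC) ξ : _ → ℂ) h =
      inducedCentralCharIn K (Subgroup.centralizer (P : Set G))
        (ξ : Subgroup.centralizer (P : Set G) → ℂ) (h : G) := by
  unfold inducedCentralCharIn
  refine finsum_mem_eq_of_bijOn (relIso hPH hC) ?_ fun v _ => ?_
  · refine ⟨?_, (relIso hPH hC).injective.injOn, ?_⟩
    · rintro v ⟨x, hx⟩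
      refine ⟨⟨((x : H) : G), Subgroup.mem_subgroupOf.1 x.2⟩, ?_⟩
      exact congrArg Subtype.val hx
    · rintro k ⟨x, hx⟩
      refine ⟨(relIso hPH hC).symm k,
        ⟨⟨⟨(x : G), hKH x.2⟩, Subgroup.mem_subgroupOf.2 x.2⟩, Subtype.ext hx⟩,
        (relIso hPH hC).apply_symm_apply k⟩
  · simp only [pullIrr_apply, map_one]

/-- Induced blocks inside `K` computed in a subgroup containing `K`. -/
lemma isInducedBlockIn_sub (hPH : P ≤ H) (hC : Subgroup.centralizer (P : Set G) ≤ H) (hKH : K ≤ H)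
    {e : Set (IrrCharacter (Subgroup.centralizer (P : Set G)))} (he : IsPBlock M e)
    {f : Set (IrrCharacter K)} (hf : IsPBlock M f) :
    IsInducedBlockIn M (K.subgroupOf H) (Subgroup.centralizer (P.subgroupOf H : Set H))
        (relBlock hPH hC e) (pullIrr (Subgroup.subgroupOfEquivOfLe hKH) '' f) ↔
      IsInducedBlockIn M K (Subgroup.centralizer (P : Set G)) e f := by
  haveI := Fintype.ofFinite K
  haveI := Fintype.ofFinite (K.subgroupOf H)
  constructor
  · rintro ⟨-, -, h⟩
    refine ⟨he, hf, fun ξ hξ χ hχ k => ?_⟩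
    have h1 := h _ ⟨ξ, hξ, rfl⟩ _ ⟨χ, hχ, rfl⟩ ((Subgroup.subgroupOfEquivOfLe hKH).symm k)
    rw [inducedCentralCharIn_sub hPH hC hKH, centralChar_pullIrr, MulEquiv.apply_symm_apply] at h1
    exact h1
  · rintro ⟨-, -, h⟩
    refine ⟨isPBlock_relBlock hPH hC he, isPBlock_image_pullIrr _ hf, ?_⟩
    rintro _ ⟨ξ, hξ, rfl⟩ _ ⟨χ, hχ, rfl⟩ k
    rw [inducedCentralCharIn_sub hPH hC hKH, centralChar_pullIrr]
    exact h ξ hξ χ hχ (Subgroup.subgroupOfEquivOfLe hKH k)

/-- Local ranks do not depend on the group in which they are computed. -/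
theorem localRk_sub (hPH : P ≤ H) (hC : Subgroup.centralizer (P : Set G) ≤ H) (hKH : K ≤ H)
    {e : Set (IrrCharacter (Subgroup.centralizer (P : Set G)))} (he : IsPBlock M e) :
    localRk p M (relBlock hPH hC e) (K.subgroupOf H) = localRk p M e K := by
  haveI := Fintype.ofFinite K
  haveI := Fintype.ofFinite (K.subgroupOf H)
  set φ := Subgroup.subgroupOfEquivOfLe hKH
  refine (finsum_mem_eq_of_bijOn (fun f => pullIrr φ '' f) ?_ fun f _ => ?_).symm
  · refine ⟨fun f hf => (isInducedBlockIn_sub hPH hC hKH he hf.2.1).2 hf, ?_, fun g hg => ?_⟩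
    · intro f _ f' _ h
      have h1 := congrArg (fun S => pullIrr φ.symm '' S) h
      simp only [Set.image_image] at h1
      have e1 : ∀ χ : IrrCharacter K, pullIrr φ.symm (pullIrr φ χ) = χ := fun χ => by
        simpa using pullIrr_symm φ.symm χ
      simpa [e1] using h1
    · have hg' : IsPBlock M (pullIrr φ.symm '' g) := isPBlock_image_pullIrr _ hg.2.1
      have e2 : pullIrr φ '' (pullIrr φ.symm '' g) = g := by
        rw [Set.image_image]
        simp only [pullIrr_symm, Set.image_id']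
      refine ⟨_, (isInducedBlockIn_sub hPH hC hKH he hg').1 ?_, e2⟩
      rw [e2]
      exact hg
  · exact (blockRank_image_pullIrr φ f).symm

/-- The centralizer computed in `H`. -/
lemma centralizer_zpowers_subgroupOf [Fintype H] {x : G} (hx : x ∈ H) :
    Subgroup.centralizer ((Subgroup.zpowers (⟨x, hx⟩ : H) : Subgroup H) : Set H) =
      (Subgroup.centralizer ((Subgroup.zpowers x : Subgroup G) : Set G) ⊓ H).subgroupOf H := by
  ext g
  rw [mem_centralizer_zpowers_iff, Subgroup.mem_subgroupOf, Subgroup.mem_inf, mem_centralizer_zpowers_iff]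
  exact ⟨fun h => ⟨congrArg Subtype.val h, g.2⟩, fun h => Subtype.ext h.1⟩

/-- Orbit sizes computed in a subgroup containing the inertial group. -/
lemma orbitCard_sub [Fintype H] (hPH : P ≤ H) (hC : Subgroup.centralizer (P : Set G) ≤ H)
    {e : Set (IrrCharacter (Subgroup.centralizer (P : Set G)))}
    (hT : stabPair (⟨P, e⟩ : BrauerPairIdx G) ≤ H) (v : H) :
    orbitCard (⟨P.subgroupOf H, relBlock hPH hC e⟩ : BrauerPairIdx H) v = orbitCard ⟨P, e⟩ (v : G) := by
  refine Nat.card_congr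
    { toFun := fun w => ⟨(w.1 : G), ?_⟩
      invFun := fun w => ⟨⟨w.1, ?_⟩, ?_⟩
      left_inv := fun w => rfl
      right_inv := fun w => rfl }
  · obtain ⟨h, hh, e'⟩ := w.2
    exact ⟨h, (conjPair_rel_iff hPH hC hPH hC e e h).1 hh, congrArg Subtype.val e'⟩
  · obtain ⟨h, hh, e'⟩ := w.2
    exact e' ▸ mul_mem (mul_mem (hT hh) v.2) (inv_mem (hT hh))
  · obtain ⟨h, hh, e'⟩ := w.2
    exact ⟨⟨h, hT hh⟩, (conjPair_rel_iff hPH hC hPH hC e e ⟨h, hT hh⟩).2 hh, Subtype.ext e'⟩

end CfsgLib.CharsMore.Watanabe
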